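import Cfsg.Agent.Known.SL2Pres.Field

/-!
# Cubes generate a finite field except the one of four elements
-/

set_option autoImplicit false
set_option linter.unusedSectionVars false

namespace Cfsg.Lib.SL3Pres

open Polynomial

variable {F : Type*} [Field F] [Fintype F]

theorem cube_gen {ω : F} (hord : orderOf ω = Fintype.card F - 1) (h4 : Fintype.card F ≠ 4) (y : F) :
    ∃ f : ℤ[X], aeval (ω ^ 3) f = y := by
  classical
  obtain ⟨p, hcp⟩ := CharP.exists F
  haveI := hcp
  haveI : Fact p.Prime := ⟨CharP.char_is_prime F p⟩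
  letI := ZMod.algebra F p
  set K := IntermediateField.adjoin (ZMod p) ({ω ^ 3} : Set F) with hK
  have hKtop : K = ⊤ := by
    by_contra hne
    haveI : Fintype K := Fintype.ofFinite K
    have hcard : Fintype.card F = Fintype.card K ^ Module.finrank K F := Module.card_eq_pow_finrank
    have hk2 : 2 ≤ Fintype.card K := Fintype.one_lt_card
    have hm : 2 ≤ Module.finrank K F := by
      have hm0 : 0 < Module.finrank K F := Module.finrank_pos
      have hm1 : Module.finrank K F ≠ 1 := fun h => hne <| by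
        refine IntermediateField.eq_of_le_of_finrank_le le_top ?_
        rw [IntermediateField.finrank_top', ← Module.finrank_mul_finrank (ZMod p) K F, h, mul_one]
      omega
    have hω0 : ω ^ 3 ≠ 0 := pow_ne_zero 3 fun h => by
      have := hord
      rw [h, orderOf_zero] at this
      have := Fintype.one_lt_card (α := F)
      omega
    have hpow := FiniteField.pow_card_sub_one_eq_one (⟨ω ^ 3, IntermediateField.mem_adjoin_simple_self _ _⟩ : K)
      (fun h => hω0 (congrArg Subtype.val h))
    have hpow' : ω ^ (3 * (Fintype.card K - 1)) = 1 := by rw [pow_mul]; exact congrArg Subtype.val hpow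
    have hdvd := Nat.le_of_dvd (by omega) (orderOf_dvd_of_pow_eq_one hpow')
    rw [hord] at hdvd
    have hsq : Fintype.card K ^ 2 ≤ Fintype.card F := hcard ▸ Nat.pow_le_pow_right (by omega) hm
    rcases Nat.lt_or_ge (Fintype.card K) 3 with hlt | hge
    · rw [show Fintype.card K = 2 by omega] at hdvd hsq
      omega
    · have : Fintype.card K * 3 ≤ Fintype.card K ^ 2 := by rw [pow_two]; exact Nat.mul_le_mul_left _ hge
      omega
  have hy : y ∈ K.toSubalgebra := by rw [hKtop]; trivial
  rw [hK, IntermediateField.adjoin_simple_toSubalgebra_of_isAlgebraic (Algebra.IsAlgebraic.isAlgebraic _),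
    Algebra.adjoin_singleton_eq_range_aeval] at hy
  obtain ⟨g, rfl⟩ := hy
  obtain ⟨f, rfl⟩ := Polynomial.map_surjective (Int.castRingHom (ZMod p)) ZMod.intCast_surjective g
  exact ⟨f, (SL2Pres.aeval_mod p (ω ^ 3) f).symm⟩

theorem gen_surjective {ω : F} (hgen : ∀ x : F, x ≠ 0 → ∃ k : ℕ, ω ^ k = x) (x : F) :
    ∃ f : ℤ[X], aeval ω f = x := by
  by_cases hx : x = 0
  · exact ⟨0, by simp [hx]⟩
  obtain ⟨k, rfl⟩ := hgen x hx
  exact ⟨X ^ k, by rw [aeval_X_pow]⟩

theorem four_facts {ω : F} (hord : orderOf ω = Fintype.card F - 1) (h4 : Fintype.card F = 4) :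
    CharP F 2 ∧ ω ^ 2 = ω + 1 ∧ ω ≠ 1 := by
  have h2 : (2 : F) = 0 := by
    have := FiniteField.cast_card_eq_zero F
    rw [h4, show ((4 : ℕ) : F) = 2 * 2 by norm_num] at this
    exact (mul_self_eq_zero).1 this
  haveI : CharP F 2 := CharTwo.of_one_ne_zero_of_two_eq_zero one_ne_zero h2
  have h1 : ω ≠ 1 := fun h => by rw [h, orderOf_one, h4] at hord; norm_num at hord
  have h3 : ω ^ 3 = 1 := by
    have h := pow_orderOf_eq_one ω
    rwa [hord, h4] at h
  refine ⟨inferInstance, ?_, h1⟩
  have : (ω - 1) * (ω ^ 2 + ω + 1) = 0 := by linear_combination h3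
  have := (mul_eq_zero.1 this).resolve_left (sub_ne_zero.2 h1)
  rw [add_assoc, CharTwo.add_eq_zero] at this
  exact this

theorem four_span {ω : F} (hgen : ∀ x : F, x ≠ 0 → ∃ k : ℕ, ω ^ k = x) (h2 : ω ^ 2 = ω + 1) (y : F) :
    ∃ a b : ℤ, y = a + b * ω := by
  by_cases hy : y = 0
  · exact ⟨0, 0, by simp [hy]⟩
  obtain ⟨k, rfl⟩ := hgen y hy
  clear hy
  induction k with
  | zero => exact ⟨1, 0, by simp⟩
  | succ k ih =>
    obtain ⟨a, b, hab⟩ := ih
    exact ⟨b, a + b, by rw [pow_succ, hab]; push_cast; linear_combination (b : F) * h2⟩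

theorem four_kernel {ω : F} (hord : orderOf ω = Fintype.card F - 1) (h4 : Fintype.card F = 4) (f : ℤ[X])
    (hf : aeval ω f = 0) : ∃ g r : ℤ[X], f = g * (X ^ 2 + X + 1) + C ((2 : ℕ) : ℤ) * r := by
  obtain ⟨hc, h2, h1⟩ := four_facts hord h4
  haveI := hc
  set P : ℤ[X] := X ^ 2 + X + 1 with hP
  have hm : P.Monic := by rw [hP]; monicity!
  have hdeg : P.natDegree = 2 := by rw [hP]; compute_degree!
  have e := modByMonic_add_div f P
  have hlow : (f %ₘ P).natDegree ≤ 1 := by
    have := natDegree_modByMonic_lt f hm (fun h => by rw [h, natDegree_one] at hdeg; omega)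
    omega
  rw [eq_X_add_C_of_natDegree_le_one hlow] at e
  set b := (f %ₘ P).coeff 1
  set a := (f %ₘ P).coeff 0
  have hPω : aeval ω P = 0 := by
    rw [hP, map_add, map_add, aeval_X_pow, aeval_X, map_one, h2, add_assoc]
    exact CharTwo.add_self_eq_zero _
  have hval : (b : F) * ω + a = 0 := by
    have := congrArg (aeval ω) e
    simpa [hPω, hf] using this
  have hb : (b : F) = 0 := by
    rcases Int.even_or_odd' b with ⟨b', hb' | hb'⟩
    · rw [hb']; push_cast; rw [CharTwo.two_eq_zero, zero_mul]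
    · exfalso
      rw [hb'] at hval
      push_cast at hval
      rw [CharTwo.two_eq_zero, zero_mul, zero_add, one_mul, CharTwo.add_eq_zero] at hval
      rcases Int.even_or_odd' a with ⟨a', ha' | ha'⟩ <;> rw [ha'] at hval <;> push_cast at hval <;>
        rw [CharTwo.two_eq_zero, zero_mul] at hval
      · rw [hval, zero_pow two_ne_zero, zero_add] at h2; exact zero_ne_one h2
      · exact h1 (by rw [hval, zero_add])
  have ha : (a : F) = 0 := by rwa [hb, zero_mul, zero_add] at hval
  obtain ⟨b', hb'⟩ := (CharP.intCast_eq_zero_iff F 2 b).1 hb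
  obtain ⟨a', ha'⟩ := (CharP.intCast_eq_zero_iff F 2 a).1 ha
  refine ⟨f /ₘ P, C b' * X + C a', ?_⟩
  conv_lhs => rw [← e, hb', ha', map_mul, map_mul]
  ring

end Cfsg.Lib.SL3Pres
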