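import Cfsg.Agent.Known.SL3Pres.Target
import Cfsg.Agent.Known.SL3Pres.Field
import Cfsg.Agent.Known.SL2Pres.Odd

/-!
# Fourteen relations on four generators for the special linear group of degree three
-/

set_option autoImplicit false
set_option linter.unusedSectionVars false

open scoped commutatorElement

namespace Cfsg.Lib.SL3Pres

open Polynomial
open Matrix (SpecialLinearGroup)
open SL2Pres (cj wd)

variable {F : Type*} [Field F] [Fintype F]

/-- The generating words. -/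
abbrev wH : FreeGroup (Fin 4) := FreeGroup.of 0

/-- The generating words. -/
abbrev wU : FreeGroup (Fin 4) := FreeGroup.of 1

/-- The generating words. -/
abbrev wC : FreeGroup (Fin 4) := FreeGroup.of 2

/-- The generating words. -/
abbrev wT : FreeGroup (Fin 4) := FreeGroup.of 3

/-- The images of the generators. -/
abbrev mat {ω : F} (hω : ω ≠ 0) : Fin 4 → SpecialLinearGroup (Fin 3) F := ![mH hω, StN.T 0 1 1, mC, mT]

theorem T_add (x y : F) :
    (StN.T 0 1 (x + y) : SpecialLinearGroup (Fin 3) F) = StN.T 0 1 x * StN.T 0 1 y :=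
  (StN.rels_T.add 0 1 (by decide) x y).symm

theorem T_zero : (StN.T 0 1 (0 : F) : SpecialLinearGroup (Fin 3) F) = 1 := SL2Pres.root_zero T_add

theorem wd_mat {ω : F} (hω : ω ≠ 0) (f : ℤ[X]) :
    wd (mH hω) (StN.T 0 1 1) f = (StN.T 0 1 (aeval ω f) : SpecialLinearGroup (Fin 3) F) :=
  SL2Pres.wd_root T_add (mH_conj hω) f

theorem cj_mat {ω : F} (hω : ω ≠ 0) (k : ℕ) :
    cj (mH hω) (StN.T 0 1 1) k = (StN.T 0 1 (ω ^ k) : SpecialLinearGroup (Fin 3) F) := by
  induction k with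
  | zero => rw [Nat.cast_zero, SL2Pres.cj_zero, pow_zero]
  | succ k ih =>
    rw [show ((k + 1 : ℕ) : ℤ) = 1 + k by push_cast; ring, SL2Pres.cj_add, zpow_one, ih, mH_conj, pow_succ']

theorem exists_module (p : ℕ) [Fact p.Prime] [CharP F p] {ω : F} (hω : ω ≠ 0)
    (hgen : ∀ x : F, x ≠ 0 → ∃ k : ℕ, ω ^ k = x) (hord : orderOf ω = Fintype.card F - 1) :
    ∃ M : List (FreeGroup (Fin 4)), M.length ≤ 4 ∧ (Fintype.card F = 4 → M.length ≤ 2) ∧
      (∀ r ∈ M, FreeGroup.lift (mat hω) r = 1) ∧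
      ∀ (G : Type) [Group G] (g : Fin 4 → G), (∀ r ∈ M, FreeGroup.lift g r = 1) →
        (Fintype.card F = 4 → g 1 * g 1 = 1) ∧
        ∃ φ : F → G, (∀ x y, φ (x + y) = φ x * φ y) ∧ φ 1 = g 1 ∧ (∀ x, g 0 * φ x * (g 0)⁻¹ = φ (ω * x)) ∧
          ∀ f : ℤ[X], φ (aeval ω f) = wd (g 0) (g 1) f := by
  have e0 : mat hω 0 = mH hω := rfl
  have e1 : mat hω 1 = StN.T 0 1 1 := rfl
  by_cases h4 : Fintype.card F = 4
  · obtain ⟨hc2, hω2, -⟩ := four_facts hord h4
    obtain rfl : p = 2 := CharP.eq F ‹CharP F p› hc2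
    refine ⟨[wU * wU, cj wH wU 2 * (wU * cj wH wU 1)⁻¹], by simp, fun _ => by simp, ?_, fun G _ g hg => ?_⟩
    · simp only [List.forall_mem_cons, List.not_mem_nil, false_imp_iff, implies_true, and_true, map_mul, map_inv,
        SL2Pres.cj_map, FreeGroup.lift_apply_of, e0, e1, mul_inv_eq_one]
      refine ⟨by rw [← T_add, CharTwo.add_self_eq_zero, T_zero], ?_⟩
      have c1 := cj_mat hω 1
      have c2 := cj_mat hω 2
      norm_cast at c1 c2
      rw [c1, c2, ← T_add, pow_one, hω2, add_comm]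
    simp only [List.forall_mem_cons, List.not_mem_nil, false_imp_iff, implies_true, and_true, map_mul, map_inv,
      SL2Pres.cj_map, FreeGroup.lift_apply_of, mul_inv_eq_one] at hg
    obtain ⟨hu, h2⟩ := hg
    refine ⟨fun _ => hu, ?_⟩
    have sq : ∀ k, cj (g 0) (g 1) k * cj (g 0) (g 1) k = 1 := fun k => by
      rw [cj, show g 0 ^ k * g 1 * (g 0 ^ k)⁻¹ * (g 0 ^ k * g 1 * (g 0 ^ k)⁻¹) = g 0 ^ k * (g 1 * g 1) * (g 0 ^ k)⁻¹
        by group, hu]
      group
    have hcm : Commute (g 1) (cj (g 0) (g 1) 1) := by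
      show _ = _
      have h3 : g 1 * cj (g 0) (g 1) 1 * (g 1 * cj (g 0) (g 1) 1) = 1 := by rw [← h2, sq]
      rw [eq_inv_of_mul_eq_one_left h3, mul_inv_rev, inv_eq_of_mul_eq_one_left hu, inv_eq_of_mul_eq_one_left (sq 1)]
    have hc := SL2Pres.all_commute_of_mult (a := 1) (SL2Pres.commute_steps hcm h2)
      (Subgroup.subset_closure ⟨1, by simp⟩)
    have hP : wd (g 0) (g 1) (X ^ 2 + X + 1) = 1 := by
      obtain ⟨θ, hθ, hadd, hone, hX, -⟩ := SL2Pres.exists_theta hc
      have t1 : θ X = cj (g 0) (g 1) 1 := by rw [← mul_one X, ← hX, hone, SL2Pres.cj_one]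
      have t2 : θ (X ^ 2) = cj (g 0) (g 1) 2 := by
        rw [pow_two, ← hX, t1, show (2 : ℤ) = 1 + 1 by norm_num, SL2Pres.cj_add _ _ 1 1, zpow_one]
      rw [← hθ, hadd, hadd, t2, t1, hone, mul_assoc, (hc 1 0 |> fun h => by
        rw [SL2Pres.cj_zero] at h; exact h.eq : cj (g 0) (g 1) 1 * g 1 = g 1 * cj (g 0) (g 1) 1), ← h2, sq]
    exact SL2Pres.exists_root_hom 2 ω (gen_surjective hgen) _ (four_kernel hord h4) hc (by rw [pow_two, hu]) hP
  obtain ⟨P, hP0, hP⟩ := SL2Pres.exists_int_poly p ω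
  by_cases hw : ω + 1 = 0
  · refine ⟨[wU ^ p, cj wH wU 1 * wU, wd wH wU P], by simp, fun h => absurd h h4, ?_, fun G _ g hg => ?_⟩
    · simp only [List.forall_mem_cons, List.not_mem_nil, false_imp_iff, implies_true, and_true, map_mul, map_pow,
        SL2Pres.cj_map, SL2Pres.wd_map, FreeGroup.lift_apply_of, e0, e1, wd_mat hω, hP0, T_zero]
      refine ⟨?_, ?_⟩
      · rw [← zpow_natCast, SL2Pres.root_zpow T_add, Int.cast_natCast, CharP.cast_eq_zero, zero_mul, T_zero]
      · have c1 := cj_mat hω 1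
        norm_cast at c1
        rw [c1, pow_one, ← T_add, hw, T_zero]
    simp only [List.forall_mem_cons, List.not_mem_nil, false_imp_iff, implies_true, and_true, map_mul, map_pow,
      SL2Pres.cj_map, SL2Pres.wd_map, FreeGroup.lift_apply_of] at hg
    obtain ⟨hup, h1, hPu⟩ := hg
    refine ⟨fun h => absurd h h4, ?_⟩
    have e : cj (g 0) (g 1) 1 = (g 1)⁻¹ := eq_inv_of_mul_eq_one_left h1
    have hc := SL2Pres.all_commute_of_two (h := g 0) (u := g 1) (by rw [e]; exact (Commute.refl _).inv_right) (by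
      rw [show (2 : ℤ) = 1 + 1 by norm_num, SL2Pres.cj_add _ _ 1 1, e, zpow_one,
        show g 0 * (g 1)⁻¹ * (g 0)⁻¹ = (cj (g 0) (g 1) 1)⁻¹ by rw [SL2Pres.cj_one]; group, e, inv_inv]
      exact Subgroup.subset_closure (Set.mem_insert _ _))
    exact SL2Pres.exists_root_hom p ω (gen_surjective hgen) P hP hc hup hPu
  · obtain ⟨b, hb⟩ := hgen _ hw
    refine ⟨[wU ^ p, wU * cj wH wU 1 * (cj wH wU 1 * wU)⁻¹, cj wH wU b * (wU * cj wH wU 1)⁻¹, wd wH wU P],
      by simp, fun h => absurd h h4, ?_, fun G _ g hg => ?_⟩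
    · simp only [List.forall_mem_cons, List.not_mem_nil, false_imp_iff, implies_true, and_true, map_mul, map_inv,
        map_pow, SL2Pres.cj_map, SL2Pres.wd_map, FreeGroup.lift_apply_of, e0, e1, wd_mat hω, hP0, T_zero,
        mul_inv_eq_one]
      have c1 := cj_mat hω 1
      norm_cast at c1
      refine ⟨?_, ?_, ?_⟩
      · rw [← zpow_natCast, SL2Pres.root_zpow T_add, Int.cast_natCast, CharP.cast_eq_zero, zero_mul, T_zero]
      · rw [c1, pow_one, ← T_add, ← T_add, add_comm]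
      · rw [cj_mat hω, hb, c1, pow_one, ← T_add, add_comm]
    simp only [List.forall_mem_cons, List.not_mem_nil, false_imp_iff, implies_true, and_true, map_mul, map_inv,
      map_pow, SL2Pres.cj_map, SL2Pres.wd_map, FreeGroup.lift_apply_of, mul_inv_eq_one] at hg
    obtain ⟨hup, h1, h2, hPu⟩ := hg
    refine ⟨fun h => absurd h h4, ?_⟩
    have hc := SL2Pres.all_commute_of_mult (a := 1) (SL2Pres.commute_steps h1 h2)
      (Subgroup.subset_closure ⟨1, by simp⟩)
    exact SL2Pres.exists_root_hom p ω (gen_surjective hgen) P hP hc hup hPu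

/-- The root element of exponent `k` at a position. -/
def xk {G : Type*} [Group G] (h u c t : G) (i j : Fin 3) (k : ℕ) : G := P c t i j * cj h u k * (P c t i j)⁻¹

theorem map_xk {G H : Type*} [Group G] [Group H] (f : G →* H) (h u c t : G) (i j : Fin 3) (k : ℕ) :
    f (xk h u c t i j k) = xk (f h) (f u) (f c) (f t) i j k := by
  simp [xk, map_P, SL2Pres.cj_map]

/-- The three commutator relations at a seed. -/
def seedRels (k : ℕ) : List (FreeGroup (Fin 4)) :=
  [wU * xk wH wU wC wT 0 2 k * (xk wH wU wC wT 0 2 k * wU)⁻¹,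
   wU * xk wH wU wC wT 2 1 k * (xk wH wU wC wT 2 1 k * wU)⁻¹,
   ⁅wU, xk wH wU wC wT 1 2 k⁆ * (xk wH wU wC wT 0 2 k)⁻¹]

theorem seed_mat {ω : F} (hω : ω ≠ 0) (k : ℕ) : ∀ r ∈ seedRels k, FreeGroup.lift (mat hω) r = 1 := by
  have ex : ∀ i j, i ≠ j → xk (mH hω) (StN.T 0 1 1) mC mT i j k =
      (StN.T i j (ω ^ k) : SpecialLinearGroup (Fin 3) F) := fun i j h => by rw [xk, cj_mat, P_T h]
  have h := StN.rels_T (n := 3) (F := F)
  simp only [seedRels, List.forall_mem_cons, List.not_mem_nil, false_imp_iff, implies_true, and_true, map_mul,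
    map_inv, map_xk, map_commutatorElement, FreeGroup.lift_apply_of, mul_inv_eq_one]
  show StN.T 0 1 1 * xk (mH hω) (StN.T 0 1 1) mC mT 0 2 k = xk (mH hω) (StN.T 0 1 1) mC mT 0 2 k * StN.T 0 1 1 ∧
    StN.T 0 1 1 * xk (mH hω) (StN.T 0 1 1) mC mT 2 1 k = xk (mH hω) (StN.T 0 1 1) mC mT 2 1 k * StN.T 0 1 1 ∧
      ⁅StN.T 0 1 1, xk (mH hω) (StN.T 0 1 1) mC mT 1 2 k⁆ = xk (mH hω) (StN.T 0 1 1) mC mT 0 2 k
  rw [ex 0 2 (by decide), ex 2 1 (by decide), ex 1 2 (by decide)]
  exact ⟨h.disj 0 1 0 2 (by decide) (by decide) (by decide) (by decide) _ _,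
    h.disj 0 1 2 1 (by decide) (by decide) (by decide) (by decide) _ _,
    by rw [h.comm 0 1 2 (by decide) (by decide) (by decide), one_mul]⟩

theorem main : ∃ rels : Finset (FreeGroup (Fin 4)), rels.card ≤ 14 ∧
    Nonempty (PresentedGroup (↑rels : Set (FreeGroup (Fin 4))) ≃* SpecialLinearGroup (Fin 3) F) := by
  classical
  obtain ⟨p, hcp⟩ := CharP.exists F
  haveI := hcp
  haveI : Fact p.Prime := ⟨CharP.char_is_prime F p⟩
  obtain ⟨ω, hω, hgen, hord⟩ := SL2Pres.exists_generator (F := F)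
  obtain ⟨M, hM4, hM2, hMmat, hMg⟩ := exists_module p hω hgen hord
  let tor : List (FreeGroup (Fin 4)) := [wT * wC * wT⁻¹ * (wC * wC)⁻¹, wT * wH * wT⁻¹ * wH,
    wH * (wC * wH * wC⁻¹) * (wC⁻¹ * wH * wC), wH * (wC * wH * wC⁻¹) * ((wC * wH * wC⁻¹) * wH)⁻¹,
    wH * (wC * wU * wC⁻¹) * wH⁻¹ * (wC * cj wH wU 1 * wC⁻¹)⁻¹, wT * (tw wU wC wT)⁻¹]
  let flip : List (FreeGroup (Fin 4)) := if Fintype.card F = 4 then [] else [wT * wT]
  let k₀ : ℕ := if Fintype.card F = 4 then 1 else 0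
  let seeds : List (FreeGroup (Fin 4)) :=
    if Fintype.card F = 4 then seedRels 0 ++ seedRels 1 else seedRels 0
  let L := M ++ tor ++ flip ++ seeds
  have hlen : L.length ≤ 14 := by
    by_cases h4 : Fintype.card F = 4
    · have := hM2 h4
      simp [L, tor, flip, seeds, seedRels, h4]; omega
    · simp [L, tor, flip, seeds, seedRels, h4]; omega
  have e0 : mat hω 0 = mH hω := rfl
  have e1 : mat hω 1 = StN.T 0 1 1 := rfl
  have e2 : mat hω 2 = mC := rfl
  have e3 : mat hω 3 = mT := rfl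
  have hL : ∀ r ∈ L, FreeGroup.lift (mat hω) r = 1 := by
    intro r hr
    simp only [L, List.mem_append] at hr
    rcases hr with ((hr | hr) | hr) | hr
    · exact hMmat r hr
    · revert r
      simp only [tor, List.forall_mem_cons, List.not_mem_nil, false_imp_iff, implies_true, and_true, map_mul,
        map_inv, SL2Pres.cj_map, map_tw, FreeGroup.lift_apply_of, e0, e1, e2, e3, mul_inv_eq_one]
      have c1 := cj_mat hω 1
      norm_cast at c1
      exact ⟨mT_tct, by rw [mT_tht hω, inv_mul_cancel], mH_hhh hω, (mH_comm hω).eq, by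
        rw [c1, pow_one, mH_next hω], tw_mat.symm⟩
    · by_cases h4 : Fintype.card F = 4
      · simp [flip, h4] at hr
      · simp only [flip, h4, if_false, List.mem_singleton] at hr
        subst hr
        simp [mT_tt]
    · by_cases h4 : Fintype.card F = 4
      · simp only [seeds, h4, if_true, List.mem_append] at hr
        exact hr.elim (seed_mat hω 0 r) (seed_mat hω 1 r)
      · simp only [seeds, h4, if_false] at hr
        exact seed_mat hω 0 r hr
  refine ⟨L.toFinset, (List.toFinset_card_le L).trans hlen, ?_⟩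
  let rels : Set (FreeGroup (Fin 4)) := ↑L.toFinset
  have hmem : ∀ {r}, r ∈ rels ↔ r ∈ L := by simp [rels]
  let g : Fin 4 → PresentedGroup rels := fun i => PresentedGroup.of i
  have hmk : PresentedGroup.mk rels = FreeGroup.lift g :=
    FreeGroup.ext_hom _ _ fun i => by rw [FreeGroup.lift_apply_of]; rfl
  have hr : ∀ r ∈ L, FreeGroup.lift g r = 1 := fun r hr => by
    rw [← hmk]
    exact PresentedGroup.one_of_mem (hmem.2 hr)
  obtain ⟨hu2, φ, hadd, hone, hconj, hwd⟩ :=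
    hMg _ g fun r h => hr r (by simp only [L, List.mem_append]; tauto)
  have htor : ∀ r ∈ tor, FreeGroup.lift g r = 1 := fun r h => hr r (by simp only [L, List.mem_append]; tauto)
  simp only [tor, List.forall_mem_cons, List.not_mem_nil, false_imp_iff, implies_true, and_true, map_mul, map_inv,
    SL2Pres.cj_map, map_tw, FreeGroup.lift_apply_of, mul_inv_eq_one] at htor
  obtain ⟨htct, htht, hhhh, hcomm, hnext, htw⟩ := htor
  have htt : g 3 * g 3 = 1 := by
    by_cases h4 : Fintype.card F = 4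
    · rw [htw]; exact tw_sq (hu2 h4)
    · simpa using hr (wT * wT) (by simp [L, flip, h4])
  let D : Data F (PresentedGroup rels) :=
    { h := g 0, c := g 2, t := g 3, φ := φ, ω := ω, hω := hω, add := hadd, conj := hconj, tt := htt,
      tct := htct, tht := mul_eq_one_iff_eq_inv.1 htht, hhh := hhhh, hcomm := hcomm,
      next := by
        rw [hone, hnext, SL2Pres.cj_one, ← hone, hconj, mul_one] }
  have hxk : ∀ i j k, xk (g 0) (g 1) (g 2) (g 3) i j k = D.X i j (ω ^ k) := fun i j k => by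
    rw [xk, Data.X, SL2Pres.cj_natCast, ← hone]
    show P (g 2) (g 3) i j * (D.h ^ k * D.φ 1 * (D.h ^ k)⁻¹) * (P (g 2) (g 3) i j)⁻¹ = _
    rw [D.φ_pow]
  have hu : g 1 = D.X 0 1 1 := by
    show g 1 = 1 * φ 1 * (1 : PresentedGroup rels)⁻¹
    rw [hone]; group
  have hseed : ∀ k, (∀ r ∈ seedRels k, FreeGroup.lift g r = 1) →
      Commute (D.X 0 1 1) (D.X 0 2 (ω ^ k)) ∧ Commute (D.X 0 1 1) (D.X 2 1 (ω ^ k)) ∧
        ⁅D.X 0 1 1, D.X 1 2 (ω ^ k)⁆ = D.X 0 2 (ω ^ k) := by
    intro k hk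
    simp only [seedRels, List.forall_mem_cons, List.not_mem_nil, false_imp_iff, implies_true, and_true, map_mul,
      map_inv, map_xk, map_commutatorElement, FreeGroup.lift_apply_of, mul_inv_eq_one, hxk] at hk
    simp only [hu] at hk
    exact hk
  have hs0 := hseed 0 fun r h => hr r (by
    simp only [L, seeds, List.mem_append]
    by_cases h4 : Fintype.card F = 4 <;> simp [h4, h])
  have hs1 := hseed k₀ fun r h => hr r (by
    simp only [L, seeds, List.mem_append]
    by_cases h4 : Fintype.card F = 4 <;> simp [k₀, h4] at h ⊢ <;> simp [h])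
  rw [pow_zero] at hs0
  have hcube : ∀ y : F, ∃ a b : ℤ[X], y = aeval (D.ω ^ 3) a + aeval (D.ω ^ 3) b * ω ^ k₀ := by
    intro y
    by_cases h4 : Fintype.card F = 4
    · obtain ⟨a, b, rfl⟩ := four_span hgen (four_facts hord h4).2.1 y
      exact ⟨C a, C b, by simp [k₀, h4]⟩
    · obtain ⟨f, rfl⟩ := cube_gen hord h4 y
      exact ⟨f, 0, by simp [D]⟩
  have hR := D.rels hgen hcube ⟨hs0.1, hs1.1⟩ ⟨hs0.2.1, hs1.2.1⟩ ⟨hs0.2.2, hs1.2.2⟩
  -- generation
  set H := Subgroup.closure {x | ∃ (i j : Fin 3) (a : F), i ≠ j ∧ x = D.X i j a} with hH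
  have hXH : ∀ {i j : Fin 3} (a : F), i ≠ j → D.X i j a ∈ H := fun a h =>
    Subgroup.subset_closure ⟨_, _, a, h, rfl⟩
  have norm : ∀ x : PresentedGroup rels, (∀ (i j : Fin 3) (a : F), i ≠ j → x * D.X i j a * x⁻¹ ∈ H) →
      ∀ y ∈ H, x * y * x⁻¹ ∈ H := by
    intro x hx y hy
    induction hy using Subgroup.closure_induction with
    | mem y hy => obtain ⟨i, j, a, hij, rfl⟩ := hy; exact hx i j a hij
    | one => simpa using one_mem H
    | mul a b _ _ ha hb => simpa using mul_mem ha hb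
    | inv a _ ha => simpa [mul_assoc] using inv_mem ha
  have nc := norm D.c fun i j a h => by rw [D.c_X h]; exact hXH _ (by simpa using h)
  have nh := norm D.h fun i j a h => by rw [D.h_X hgen h]; exact hXH _ h
  have nci : ∀ y ∈ H, D.c⁻¹ * y * D.c ∈ H := fun y hy => by
    have := nc _ (nc y hy)
    rw [show D.c⁻¹ * y * D.c = D.c⁻¹ * y * D.c⁻¹⁻¹ by rw [inv_inv], D.c_inv]
    simpa [mul_assoc] using this
  have htH : g 3 ∈ H := by
    have hx : ∀ i j : Fin 3, i ≠ j → xw (g 1) (g 2) (g 3) i j ∈ H := fun i j h => by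
      rw [xw, ← hone]; exact hXH 1 h
    rw [htw, tw]
    have h01 := hx 0 1 (by decide)
    have h10 := inv_mem (hx 1 0 (by decide))
    have h02 := inv_mem (hx 0 2 (by decide))
    exact mul_mem (mul_mem (mul_mem h02 (hx 2 0 (by decide))) h02)
      (mul_mem (mul_mem (mul_mem h01 h10) h01) (mul_mem (mul_mem h01 h10) h01))
  have hcH : g 2 ∈ H := by
    have h1 : D.t * (D.c * D.t⁻¹ * D.c⁻¹) ∈ H := mul_mem htH (nc _ (inv_mem htH))
    rwa [show D.t * (D.c * D.t⁻¹ * D.c⁻¹) = D.t * D.c * D.t⁻¹ * D.c⁻¹ by group, D.tct,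
      mul_inv_cancel_right] at h1
  have hhH : g 0 ∈ H := by
    have h2 : D.t * (D.h * D.t⁻¹ * D.h⁻¹) ∈ H := mul_mem htH (nh _ (inv_mem htH))
    rw [show D.t * (D.h * D.t⁻¹ * D.h⁻¹) = D.t * D.h * D.t⁻¹ * D.h⁻¹ by group, D.tht] at h2
    have ha : D.c * (D.h * D.c⁻¹ * D.h⁻¹) ∈ H := mul_mem hcH (nh _ (inv_mem hcH))
    have hb : D.c⁻¹ * (D.h * D.c * D.h⁻¹) ∈ H := mul_mem (inv_mem hcH) (nh _ hcH)
    have h3 := mul_mem (nh _ ha) (nh _ (nh _ hb))
    have e : D.h * (D.c * (D.h * D.c⁻¹ * D.h⁻¹)) * D.h⁻¹ *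
        (D.h * (D.h * (D.c⁻¹ * (D.h * D.c * D.h⁻¹)) * D.h⁻¹) * D.h⁻¹) =
        D.h * (D.c * D.h * D.c⁻¹) * (D.c⁻¹ * D.h * D.c) * (D.h * D.h * D.h)⁻¹ := by group
    rw [e, D.hhh, one_mul] at h3
    have h4 := mul_mem (inv_mem h3) h2
    rwa [show (D.h * D.h * D.h)⁻¹⁻¹ * (D.h⁻¹ * D.h⁻¹) = D.h by group] at h4
  have htop : H = ⊤ := by
    rw [eq_top_iff, ← PresentedGroup.closure_range_of rels, Subgroup.closure_le]
    rintro _ ⟨i, rfl⟩
    fin_cases i
    · exact hhH
    · show g 1 ∈ H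
      rw [hu]; exact hXH 1 (by decide)
    · exact hcH
    · exact htH
  let π : PresentedGroup rels →* SpecialLinearGroup (Fin 3) F :=
    PresentedGroup.toGroup (fun r h => hL r (hmem.1 h))
  have hπ : ∀ i, π (g i) = mat hω i := fun i => PresentedGroup.toGroup.of _
  have hπX : ∀ i j : Fin 3, i ≠ j → ∀ a : F, π (D.X i j a) = StN.T i j a := by
    intro i j hij a
    obtain ⟨f, rfl⟩ := gen_surjective hgen a
    show π (P (g 2) (g 3) i j * φ (aeval ω f) * (P (g 2) (g 3) i j)⁻¹) = _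
    rw [map_mul, map_mul, map_inv, map_P, hwd, SL2Pres.wd_map, hπ, hπ, hπ, hπ, e0, e1, e2, e3, wd_mat hω, P_T hij]
  have hinj : Function.Injective π := StN.kernel_eq_bot hR π (fun i j h a => by rw [hπX i j h a, StN.coe_T h]) le_rfl htop
  have hsurj : Function.Surjective π := by
    rw [← MonoidHom.range_eq_top]
    refine Cfsg.Lib.Classical.eq_top_of_transvection_mem _ fun i j hij a => ⟨D.X i j a, ?_⟩
    rw [hπX i j hij a, StN.T, dif_pos hij]
  exact ⟨MulEquiv.ofBijective π ⟨hinj, hsurj⟩⟩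

end Cfsg.Lib.SL3Pres
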