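import Cfsg.Agent.Known.StN.Kernel
import Cfsg.Agent.Known.SL2Pres.Field
import Cfsg.Agent.Known.SL2Pres.Struct

/-!
# Six root groups from one: the relations of type A2 spread from seeds
-/

set_option autoImplicit false
set_option linter.unusedSectionVars false

open scoped commutatorElement

namespace Cfsg.Lib.SL3Pres

open Polynomial

variable {F : Type*} [Field F] {G : Type*} [Group G]

/-- The permutation elements. -/
def P (c t : G) : Fin 3 → Fin 3 → G := ![![1, 1, c * t], ![c * c * t, 1, c], ![c * c, t, 1]]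

/-- A torus element, a cyclic element, a flip and one root group. -/
structure Data (F : Type*) [Field F] (G : Type*) [Group G] where
  h : G
  c : G
  t : G
  φ : F → G
  ω : F
  hω : ω ≠ 0
  add : ∀ x y, φ (x + y) = φ x * φ y
  conj : ∀ x, h * φ x * h⁻¹ = φ (ω * x)
  tt : t * t = 1
  tct : t * c * t⁻¹ = c * c
  tht : t * h * t⁻¹ = h⁻¹
  hhh : h * (c * h * c⁻¹) * (c⁻¹ * h * c) = 1
  hcomm : Commute h (c * h * c⁻¹)
  next : h * (c * φ 1 * c⁻¹) * h⁻¹ = c * φ ω * c⁻¹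

namespace Data

variable (D : Data F G)

/-- The six root groups. -/
def X (i j : Fin 3) (a : F) : G := P D.c D.t i j * D.φ a * (P D.c D.t i j)⁻¹

theorem t_inv : D.t⁻¹ = D.t := inv_eq_of_mul_eq_one_left D.tt

theorem ccc : D.c * D.c * D.c = 1 := by
  have h1 : D.c = D.t * (D.c * D.c) * D.t⁻¹ := by
    rw [← D.tct]
    calc D.c = D.t * D.t * D.c * (D.t * D.t)⁻¹ := by rw [D.tt]; group
      _ = _ := by group
  rw [show D.t * (D.c * D.c) * D.t⁻¹ = D.t * D.c * D.t⁻¹ * (D.t * D.c * D.t⁻¹) by group, D.tct] at h1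
  calc D.c * D.c * D.c = D.c⁻¹ * (D.c * D.c * (D.c * D.c)) := by group
    _ = 1 := by rw [← h1, inv_mul_cancel]

theorem c_inv : D.c⁻¹ = D.c * D.c := inv_eq_of_mul_eq_one_left D.ccc

theorem tc : D.t * D.c = D.c * D.c * D.t := by rw [← D.tct]; group

theorem tcc : D.t * (D.c * D.c) = D.c * D.t := by
  calc D.t * (D.c * D.c) = D.t * D.c * D.c := by group
    _ = D.c * D.c * D.t * D.c := by rw [D.tc]
    _ = D.c * D.c * (D.t * D.c) := by group
    _ = (D.c * D.c * D.c) * D.c * D.t := by rw [D.tc]; group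
    _ = _ := by rw [D.ccc, one_mul]

theorem c_P {i j : Fin 3} (hij : i ≠ j) : D.c * P D.c D.t i j = P D.c D.t (i + 1) (j + 1) := by
  fin_cases i <;> fin_cases j <;> first | exact absurd rfl hij | (simp [P, ← mul_assoc, D.ccc])

theorem t_P {i j : Fin 3} (hij : i ≠ j) : D.t * P D.c D.t i j = P D.c D.t i.rev j.rev := by
  have e1 : D.t * (D.c * D.t) = D.c * D.c := by rw [← mul_assoc, D.tc, mul_assoc, D.tt, mul_one]
  have e2 : D.t * (D.c * D.c * D.t) = D.c := by rw [← mul_assoc, D.tcc, mul_assoc, D.tt, mul_one]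
  fin_cases i <;> fin_cases j <;>
    first
      | exact absurd rfl hij
      | (simp [P, Fin.rev, D.tt, D.tc, D.tcc, e1, e2])

theorem X_add (i j : Fin 3) (a b : F) : D.X i j a * D.X i j b = D.X i j (a + b) := by
  simp only [X, D.add]; group

theorem c_X {i j : Fin 3} (hij : i ≠ j) (a : F) : D.c * D.X i j a * D.c⁻¹ = D.X (i + 1) (j + 1) a := by
  rw [X, X, ← D.c_P hij]; group

theorem t_X {i j : Fin 3} (hij : i ≠ j) (a : F) : D.t * D.X i j a * D.t⁻¹ = D.X i.rev j.rev a := by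
  rw [X, X, ← D.t_P hij]; group

theorem P_mul {i j l : Fin 3} (hij : i ≠ j) (hjl : j ≠ l) (hil : i ≠ l) {k m : Fin 3} (hkm : k ≠ m) :
    P D.c D.t i j * P D.c D.t k m = P D.c D.t (![i, j, l] k) (![i, j, l] m) := by
  have hc := @c_P F _ G _ D
  have hcc : ∀ {k m : Fin 3}, k ≠ m → D.c * D.c * P D.c D.t k m = P D.c D.t (k + 1 + 1) (m + 1 + 1) :=
    fun {k m} h => by rw [mul_assoc, hc h, hc (by simpa using h)]
  have hct : ∀ {k m : Fin 3}, k ≠ m → D.c * D.t * P D.c D.t k m = P D.c D.t (k.rev + 1) (m.rev + 1) :=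
    fun {k m} h => by rw [mul_assoc, D.t_P h, hc (by simpa using h)]
  have hcct : ∀ {k m : Fin 3}, k ≠ m →
      D.c * D.c * D.t * P D.c D.t k m = P D.c D.t (k.rev + 1 + 1) (m.rev + 1 + 1) :=
    fun {k m} h => by rw [mul_assoc, D.t_P h, hcc (by simpa using h)]
  have h1 : ∀ {k m : Fin 3}, k ≠ m → (1 : G) * P D.c D.t k m = P D.c D.t k m := fun _ => one_mul _
  have tri : ∀ i j l : Fin 3, i ≠ j → j ≠ l → i ≠ l → (i = 0 ∧ j = 1 ∧ l = 2) ∨ (i = 1 ∧ j = 2 ∧ l = 0) ∨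
      (i = 2 ∧ j = 0 ∧ l = 1) ∨ (i = 2 ∧ j = 1 ∧ l = 0) ∨ (i = 0 ∧ j = 2 ∧ l = 1) ∨ (i = 1 ∧ j = 0 ∧ l = 2) := by
    decide
  have i1 : ∀ k : Fin 3, ![0, 1, 2] k = k := by decide
  have i2 : ∀ k : Fin 3, ![1, 2, 0] k = k + 1 := by decide
  have i3 : ∀ k : Fin 3, ![2, 0, 1] k = k + 1 + 1 := by decide
  have i4 : ∀ k : Fin 3, ![2, 1, 0] k = k.rev := by decide
  have i5 : ∀ k : Fin 3, ![0, 2, 1] k = k.rev + 1 := by decide
  have i6 : ∀ k : Fin 3, ![1, 0, 2] k = k.rev + 1 + 1 := by decide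
  rcases tri i j l hij hjl hil with ⟨rfl, rfl, rfl⟩ | ⟨rfl, rfl, rfl⟩ | ⟨rfl, rfl, rfl⟩ | ⟨rfl, rfl, rfl⟩ |
    ⟨rfl, rfl, rfl⟩ | ⟨rfl, rfl, rfl⟩
  · rw [show P D.c D.t 0 1 = 1 from rfl, h1 hkm, i1, i1]
  · rw [show P D.c D.t 1 2 = D.c from rfl, hc hkm, i2, i2]
  · rw [show P D.c D.t 2 0 = D.c * D.c from rfl, hcc hkm, i3, i3]
  · rw [show P D.c D.t 2 1 = D.t from rfl, D.t_P hkm, i4, i4]
  · rw [show P D.c D.t 0 2 = D.c * D.t from rfl, hct hkm, i5, i5]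
  · rw [show P D.c D.t 1 0 = D.c * D.c * D.t from rfl, hcct hkm, i6, i6]

theorem conj_X {i j l : Fin 3} (hij : i ≠ j) (hjl : j ≠ l) (hil : i ≠ l) {k m : Fin 3} (hkm : k ≠ m) (a : F) :
    P D.c D.t i j * D.X k m a * (P D.c D.t i j)⁻¹ = D.X (![i, j, l] k) (![i, j, l] m) a := by
  rw [X, X, ← D.P_mul hij hjl hil hkm]; group

/-- The weights of the torus element. -/
def d : Fin 3 → F := ![D.ω, 1, D.ω⁻¹]

theorem φ_zero : D.φ 0 = 1 := SL2Pres.root_zero D.add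

theorem conj_inv {g : G} {μ : F} (hμ : μ ≠ 0) (hg : ∀ x, g * D.φ x * g⁻¹ = D.φ (μ * x)) (x : F) :
    g⁻¹ * D.φ x * g = D.φ (μ⁻¹ * x) := by
  have := hg (μ⁻¹ * x)
  rw [mul_inv_cancel_left₀ hμ] at this
  rw [← this]; group

theorem φ_pow (k : ℕ) : D.h ^ k * D.φ 1 * (D.h ^ k)⁻¹ = D.φ (D.ω ^ k) := by
  induction k with
  | zero => simp
  | succ k ih =>
    rw [pow_succ' D.ω, ← D.conj, ← ih, pow_succ']; group

variable (hgen : ∀ x : F, x ≠ 0 → ∃ k : ℕ, D.ω ^ k = x)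
include hgen

theorem hcc_conj (x : F) : (D.c⁻¹ * D.h * D.c) * D.φ x * (D.c⁻¹ * D.h * D.c)⁻¹ = D.φ (D.ω * x) := by
  by_cases hx : x = 0
  · rw [hx, mul_zero, D.φ_zero]; group
  obtain ⟨k, rfl⟩ := hgen x hx
  have hc : Commute (D.c⁻¹ * D.h * D.c) D.h := by
    have := D.hcomm.map (MulAut.conj D.c⁻¹).toMonoidHom
    simpa [mul_assoc] using this
  have h1 : (D.c⁻¹ * D.h * D.c) * D.φ 1 * (D.c⁻¹ * D.h * D.c)⁻¹ = D.φ D.ω := by
    calc _ = D.c⁻¹ * (D.h * (D.c * D.φ 1 * D.c⁻¹) * D.h⁻¹) * D.c := by group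
      _ = _ := by rw [D.next]; group
  rw [← D.φ_pow k]
  calc (D.c⁻¹ * D.h * D.c) * (D.h ^ k * D.φ 1 * (D.h ^ k)⁻¹) * (D.c⁻¹ * D.h * D.c)⁻¹
      = ((D.c⁻¹ * D.h * D.c) * D.h ^ k) * D.φ 1 * ((D.c⁻¹ * D.h * D.c) * D.h ^ k)⁻¹ := by group
    _ = D.h ^ k * ((D.c⁻¹ * D.h * D.c) * D.φ 1 * (D.c⁻¹ * D.h * D.c)⁻¹) * (D.h ^ k)⁻¹ := by
      rw [(hc.pow_right k).eq]; group
    _ = _ := by
      rw [h1]
      nth_rw 1 [← mul_one D.ω]
      rw [← D.conj 1, ← D.conj (D.ω ^ k), ← D.φ_pow k]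
      calc D.h ^ k * (D.h * D.φ 1 * D.h⁻¹) * (D.h ^ k)⁻¹
          = D.h * (D.h ^ k * D.φ 1 * (D.h ^ k)⁻¹) * D.h⁻¹ := by group
        _ = _ := rfl

theorem hc_conj (x : F) : (D.c * D.h * D.c⁻¹) * D.φ x * (D.c * D.h * D.c⁻¹)⁻¹ = D.φ ((D.ω * D.ω)⁻¹ * x) := by
  have e : D.c * D.h * D.c⁻¹ = D.h⁻¹ * (D.c⁻¹ * D.h * D.c)⁻¹ :=
    calc D.c * D.h * D.c⁻¹ = D.h⁻¹ * (D.h * (D.c * D.h * D.c⁻¹) * (D.c⁻¹ * D.h * D.c)) * (D.c⁻¹ * D.h * D.c)⁻¹ := by
          group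
      _ = _ := by rw [D.hhh]; group
  rw [e, mul_inv_rev D.ω, mul_assoc D.ω⁻¹, ← D.conj_inv D.hω D.conj, ← D.conj_inv D.hω (D.hcc_conj hgen)]
  group

theorem h_X {i j : Fin 3} (hij : i ≠ j) (a : F) :
    D.h * D.X i j a * D.h⁻¹ = D.X i j (D.d i / D.d j * a) := by
  have key : ∀ μ : F, (∀ x, ((P D.c D.t i j)⁻¹ * D.h * P D.c D.t i j) * D.φ x *
      ((P D.c D.t i j)⁻¹ * D.h * P D.c D.t i j)⁻¹ = D.φ (μ * x)) → μ = D.d i / D.d j →
      D.h * D.X i j a * D.h⁻¹ = D.X i j (D.d i / D.d j * a) := fun μ hμ e => by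
    rw [X, X, ← e, ← hμ]; group
  have hth : D.t * D.h * D.t = D.h⁻¹ := by
    conv_lhs => arg 2; rw [← D.t_inv]
    exact D.tht
  have w := D.hω
  have hinv : ∀ {g : G} {μ : F}, μ ≠ 0 → (∀ x, g * D.φ x * g⁻¹ = D.φ (μ * x)) →
      ∀ x, g⁻¹ * D.φ x * g⁻¹⁻¹ = D.φ (μ⁻¹ * x) := fun hμ hg x => by rw [inv_inv]; exact D.conj_inv hμ hg x
  fin_cases i <;> fin_cases j
  · exact absurd rfl hij
  · exact key D.ω (fun x => by simpa [P] using D.conj x) (by simp [d, div_eq_mul_inv])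
  · refine key (D.ω * D.ω) (fun x => ?_) (by simp [d, div_eq_mul_inv])
    have e : (D.c * D.t)⁻¹ * D.h * (D.c * D.t) = (D.c * D.h * D.c⁻¹)⁻¹ := by
      calc (D.c * D.t)⁻¹ * D.h * (D.c * D.t) = D.t⁻¹ * D.c⁻¹ * D.h * (D.c * D.t) := by group
        _ = D.t * (D.c * D.c) * D.h * (D.c * D.t) := by rw [D.t_inv, D.c_inv]
        _ = D.c * D.t * D.h * (D.c * D.t) := by rw [D.tcc]
        _ = D.c * D.t * D.h * (D.t * (D.c * D.c)) := by rw [D.tcc]
        _ = D.c * (D.t * D.h * D.t) * (D.c * D.c) := by group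
        _ = _ := by rw [hth, ← D.c_inv]; group
    show (D.c * D.t)⁻¹ * D.h * (D.c * D.t) * D.φ x * ((D.c * D.t)⁻¹ * D.h * (D.c * D.t))⁻¹ = _
    rw [e, hinv (inv_ne_zero (mul_ne_zero w w)) (D.hc_conj hgen), inv_inv]
  · refine key D.ω⁻¹ (fun x => ?_) (by simp [d, div_eq_mul_inv])
    have e : (D.c * D.c * D.t)⁻¹ * D.h * (D.c * D.c * D.t) = (D.c⁻¹ * D.h * D.c)⁻¹ := by
      calc (D.c * D.c * D.t)⁻¹ * D.h * (D.c * D.c * D.t) = D.t⁻¹ * (D.c * D.c)⁻¹ * D.h * (D.c * D.c * D.t) := by group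
        _ = D.t * D.c * D.h * (D.c * D.c * D.t) := by rw [← D.c_inv, inv_inv, D.t_inv, D.c_inv]
        _ = D.c * D.c * D.t * D.h * (D.t * D.c) := by rw [D.tc]
        _ = D.c * D.c * (D.t * D.h * D.t) * D.c := by group
        _ = _ := by rw [hth, ← D.c_inv]; group
    show (D.c * D.c * D.t)⁻¹ * D.h * (D.c * D.c * D.t) * D.φ x * ((D.c * D.c * D.t)⁻¹ * D.h * (D.c * D.c * D.t))⁻¹ = _
    rw [e, hinv w (D.hcc_conj hgen)]
  · exact absurd rfl hij
  · exact key D.ω (fun x => by simpa [P, mul_assoc] using D.hcc_conj hgen x) (by simp [d, div_eq_mul_inv])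
  · refine key (D.ω * D.ω)⁻¹ (fun x => ?_) (by simp [d, div_eq_mul_inv])
    have e : (D.c * D.c)⁻¹ * D.h * (D.c * D.c) = D.c * D.h * D.c⁻¹ := by rw [← D.c_inv, inv_inv]
    show (D.c * D.c)⁻¹ * D.h * (D.c * D.c) * D.φ x * ((D.c * D.c)⁻¹ * D.h * (D.c * D.c))⁻¹ = _
    rw [e, D.hc_conj hgen]
  · refine key D.ω⁻¹ (fun x => ?_) (by simp [d, div_eq_mul_inv])
    show D.t⁻¹ * D.h * D.t * D.φ x * (D.t⁻¹ * D.h * D.t)⁻¹ = _
    rw [D.t_inv, hth, hinv w D.conj]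
  · exact absurd rfl hij

variable {e₀ : F} (hcube : ∀ y : F, ∃ a b : ℤ[X], y = aeval (D.ω ^ 3) a + aeval (D.ω ^ 3) b * e₀)
include hcube

theorem spread [Fintype F] {R : F → F → Prop} {μ : F} (hμ : μ ≠ 0)
    (s1 : ∀ a b, R a b → R (D.ω * a) (D.ω ^ 3 * μ * b)) (s2 : ∀ a b, R a b → R (D.ω * a) (μ * b))
    (hz : ∀ b, R 0 b) (hR0 : R 1 0) (hadd : ∀ b b', R 1 b → R 1 b' → R 1 (b + b')) (h1 : R 1 1) (hω1 : R 1 e₀) :
    ∀ a b, R a b := by
  have hN : ∀ a : F, a ≠ 0 → a ^ (Fintype.card F - 1) = 1 := FiniteField.pow_card_sub_one_eq_one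
  have hq := Fintype.one_lt_card (α := F)
  have iter : ∀ (k : ℕ) (a b : F), R a b → R (D.ω ^ k * a) (μ ^ k * b) := by
    intro k
    induction k with
    | zero => simp
    | succ k ih =>
      intro a b hab
      rw [pow_succ', pow_succ', mul_assoc, mul_assoc]
      exact s2 _ _ (ih a b hab)
  have cube : ∀ b, R 1 b → R 1 (D.ω ^ 3 * b) := by
    intro b hb
    have h := iter (Fintype.card F - 2) _ _ (s1 _ _ hb)
    rw [mul_one, ← pow_succ, show Fintype.card F - 2 + 1 = Fintype.card F - 1 by omega, hN _ D.hω] at h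
    rwa [show μ ^ (Fintype.card F - 2) * (D.ω ^ 3 * μ * b) = μ ^ (Fintype.card F - 1) * (D.ω ^ 3 * b) by
      rw [show Fintype.card F - 1 = Fintype.card F - 2 + 1 by omega, pow_succ]; ring, hN _ hμ, one_mul] at h
  have cubes : ∀ (k : ℕ) b, R 1 b → R 1 ((D.ω ^ 3) ^ k * b) := by
    intro k
    induction k with
    | zero => simp
    | succ k ih => intro b hb; rw [pow_succ', mul_assoc]; exact cube _ (ih b hb)
  have hp : ∀ (n : ℕ) b, R 1 b → R 1 ((n : F) * b) := by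
    intro n
    induction n with
    | zero => intro b _; simpa using hR0
    | succ n ih => intro b hb; rw [Nat.cast_succ, add_mul, one_mul]; exact hadd _ _ (ih b hb) hb
  obtain ⟨p, hcp⟩ := CharP.exists F
  haveI := hcp
  haveI : Fact p.Prime := ⟨CharP.char_is_prime F p⟩
  have hint : ∀ (z : ℤ) b, R 1 b → R 1 ((z : F) * b) := by
    intro z b hb
    obtain ⟨n, hn⟩ : ∃ n : ℕ, (n : F) = z := ⟨(z : ZMod p).val, by
      letI := ZMod.algebra F p
      rw [← map_natCast (algebraMap (ZMod p) F), ZMod.natCast_zmod_val, map_intCast]⟩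
    rw [← hn]; exact hp n b hb
  have poly : ∀ (f : ℤ[X]) b, R 1 b → R 1 (aeval (D.ω ^ 3) f * b) := by
    intro f
    induction f using Polynomial.induction_on' with
    | add f g hf hg => intro b hb; rw [map_add, add_mul]; exact hadd _ _ (hf b hb) (hg b hb)
    | monomial k z =>
      intro b hb
      rw [aeval_monomial, algebraMap_int_eq, eq_intCast, mul_assoc]
      exact hint z _ (cubes k b hb)
  have hall : ∀ b, R 1 b := fun y => by
    obtain ⟨a, b, rfl⟩ := hcube y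
    exact hadd _ _ (by simpa using poly a 1 h1) (poly b _ hω1)
  intro a b
  by_cases ha : a = 0
  · rw [ha]; exact hz b
  obtain ⟨k, hk⟩ := hgen a ha
  have h := iter k 1 ((μ ^ k)⁻¹ * b) (hall _)
  rwa [mul_one, mul_inv_cancel_left₀ (pow_ne_zero _ hμ), hk] at h

variable [Fintype F]

theorem X_zero (i j : Fin 3) : D.X i j 0 = 1 := by rw [X, D.φ_zero]; group

theorem hcc_X {i j : Fin 3} (hij : i ≠ j) (a : F) :
    (D.c⁻¹ * D.h * D.c) * D.X i j a * (D.c⁻¹ * D.h * D.c)⁻¹ = D.X i j (D.d (i + 1) / D.d (j + 1) * a) := by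
  have hij' : i + 1 ≠ j + 1 := by simpa using hij
  calc (D.c⁻¹ * D.h * D.c) * D.X i j a * (D.c⁻¹ * D.h * D.c)⁻¹
      = D.c⁻¹ * (D.h * (D.c * D.X i j a * D.c⁻¹) * D.h⁻¹) * D.c := by group
    _ = D.c⁻¹ * D.X (i + 1) (j + 1) (D.d (i + 1) / D.d (j + 1) * a) * D.c := by
      rw [D.c_X hij, D.h_X hgen hij']
    _ = _ := by rw [← D.c_X hij]; group

theorem commute_spread {i j k l : Fin 3} (hij : i ≠ j) (hkl : k ≠ l) {e e' μ : F} (hμ : μ ≠ 0)
    (he : D.d i / D.d j = D.ω) (he' : D.d (i + 1) / D.d (j + 1) = D.ω)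
    (hd : (D.d k / D.d l = e ∧ D.d (k + 1) / D.d (l + 1) = e'))
    (hee : (e = D.ω ^ 3 * μ ∧ e' = μ) ∨ (e' = D.ω ^ 3 * μ ∧ e = μ))
    (h1 : Commute (D.X i j 1) (D.X k l 1)) (hω1 : Commute (D.X i j 1) (D.X k l e₀)) :
    ∀ a b, Commute (D.X i j a) (D.X k l b) := by
  have s : ∀ a b, Commute (D.X i j a) (D.X k l b) → Commute (D.X i j (D.ω * a)) (D.X k l (e * b)) := by
    intro a b hab
    have := hab.map (MulAut.conj D.h).toMonoidHom
    simpa [D.h_X hgen hij, D.h_X hgen hkl, he, hd.1] using this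
  have s' : ∀ a b, Commute (D.X i j a) (D.X k l b) → Commute (D.X i j (D.ω * a)) (D.X k l (e' * b)) := by
    intro a b hab
    have := hab.map (MulAut.conj (D.c⁻¹ * D.h * D.c)).toMonoidHom
    simp only [MulEquiv.coe_toMonoidHom, MulAut.conj_apply, D.hcc_X hgen hcube hij, D.hcc_X hgen hcube hkl, he', hd.2]
      at this
    exact this
  have hadd : ∀ b b', Commute (D.X i j 1) (D.X k l b) → Commute (D.X i j 1) (D.X k l b') →
      Commute (D.X i j 1) (D.X k l (b + b')) := fun b b' hb hb' => by rw [← D.X_add]; exact hb.mul_right hb'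
  have hz : ∀ b, Commute (D.X i j 0) (D.X k l b) := fun b => by
    rw [D.X_zero hgen hcube]; exact Commute.one_left _
  have h0 : Commute (D.X i j 1) (D.X k l 0) := by rw [D.X_zero hgen hcube]; exact Commute.one_right _
  rcases hee with ⟨rfl, rfl⟩ | ⟨rfl, rfl⟩
  · exact D.spread hgen hcube hμ s s' hz h0 hadd h1 hω1
  · exact D.spread hgen hcube hμ s' s hz h0 hadd h1 hω1

theorem rels (hrow : Commute (D.X 0 1 1) (D.X 0 2 1) ∧ Commute (D.X 0 1 1) (D.X 0 2 e₀))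
    (hcol : Commute (D.X 0 1 1) (D.X 2 1 1) ∧ Commute (D.X 0 1 1) (D.X 2 1 e₀))
    (hprod : ⁅D.X 0 1 1, D.X 1 2 1⁆ = D.X 0 2 1 ∧ ⁅D.X 0 1 1, D.X 1 2 e₀⁆ = D.X 0 2 e₀) :
    StN.Rels D.X := by
  have w := D.hω
  have row : ∀ a b, Commute (D.X 0 1 a) (D.X 0 2 b) := D.commute_spread hgen hcube (by decide) (by decide)
    (e := D.ω * D.ω) (e' := D.ω⁻¹) (inv_ne_zero w) (by simp [d]) (by simp [d]) ⟨by simp [d], by simp [d]⟩
    (Or.inl ⟨by field_simp, rfl⟩) hrow.1 hrow.2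
  have col : ∀ a b, Commute (D.X 0 1 a) (D.X 2 1 b) := D.commute_spread hgen hcube (by decide) (by decide)
    (e := D.ω⁻¹) (e' := D.ω * D.ω) (inv_ne_zero w) (by simp [d]) (by simp [d]) ⟨by simp [d], by simp [d]⟩
    (Or.inr ⟨by field_simp, rfl⟩) hcol.1 hcol.2
  have col' : ∀ a b, Commute (D.X 1 2 a) (D.X 0 2 b) := fun a b => by
    have := (col a b).map (MulAut.conj (P D.c D.t 1 2)).toMonoidHom
    simp only [MulEquiv.coe_toMonoidHom, MulAut.conj_apply] at this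
    rwa [D.conj_X (l := 0) (by decide) (by decide) (by decide) (by decide),
      D.conj_X (l := 0) (by decide) (by decide) (by decide) (by decide)] at this
  have prod : ∀ a b, ⁅D.X 0 1 a, D.X 1 2 b⁆ = D.X 0 2 (a * b) := by
    have cj : ∀ (g : G) (a b c' : G), ⁅a, b⁆ = c' → ⁅g * a * g⁻¹, g * b * g⁻¹⁆ = g * c' * g⁻¹ := by
      intro g a b c' e
      rw [← e, commutatorElement_def, commutatorElement_def]; group
    refine D.spread hgen hcube (R := fun a b => ⁅D.X 0 1 a, D.X 1 2 b⁆ = D.X 0 2 (a * b))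
      (inv_ne_zero (mul_ne_zero w w)) (fun a b e => ?_) (fun a b e => ?_) (fun b => ?_) ?_ (fun b b' e e' => ?_)
      ?_ ?_
    · have := cj D.h _ _ _ e
      rw [D.h_X hgen (by decide), D.h_X hgen (by decide), D.h_X hgen (by decide),
        show D.d 0 / D.d 1 * a = D.ω * a by simp [d],
        show D.d 1 / D.d 2 * b = D.ω ^ 3 * (D.ω * D.ω)⁻¹ * b by simp [d, w]; field_simp; simp,
        show D.d 0 / D.d 2 * (a * b) = D.ω * a * (D.ω ^ 3 * (D.ω * D.ω)⁻¹ * b) by simp [d]; field_simp] at this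
      exact this
    · have := cj (D.c⁻¹ * D.h * D.c) _ _ _ e
      rw [D.hcc_X hgen hcube (by decide), D.hcc_X hgen hcube (by decide), D.hcc_X hgen hcube (by decide),
        show D.d ((0 : Fin 3) + 1) / D.d ((1 : Fin 3) + 1) * a = D.ω * a by simp [d],
        show D.d ((1 : Fin 3) + 1) / D.d ((2 : Fin 3) + 1) * b = (D.ω * D.ω)⁻¹ * b by simp [d, div_eq_mul_inv],
        show D.d ((0 : Fin 3) + 1) / D.d ((2 : Fin 3) + 1) * (a * b) = D.ω * a * ((D.ω * D.ω)⁻¹ * b) by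
          simp [d]; field_simp] at this
      exact this
    · rw [D.X_zero hgen hcube, commutatorElement_one_left, zero_mul, D.X_zero hgen hcube]
    · rw [mul_zero, D.X_zero hgen hcube, D.X_zero hgen hcube, commutatorElement_one_right]
    · rw [one_mul] at e e' ⊢
      calc ⁅D.X 0 1 1, D.X 1 2 (b + b')⁆ = ⁅D.X 0 1 1, D.X 1 2 b⁆ *
            (D.X 1 2 b * ⁅D.X 0 1 1, D.X 1 2 b'⁆ * (D.X 1 2 b)⁻¹) := by
            rw [← D.X_add, commutatorElement_def, commutatorElement_def, commutatorElement_def]; group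
        _ = D.X 0 2 b * (D.X 1 2 b * D.X 0 2 b' * (D.X 1 2 b)⁻¹) := by rw [e, e']
        _ = _ := by rw [(col' b b').eq, mul_inv_cancel_right, D.X_add]
    · simpa using hprod.1
    · simpa using hprod.2
  have third : ∀ i j : Fin 3, i ≠ j → ∃ l, j ≠ l ∧ i ≠ l := by decide
  refine ⟨fun i j _ => D.X_add i j, fun i j k l hij hkl hil hjk a b => ?_, fun i j l hij hjl hil a b => ?_⟩
  · obtain ⟨m, hjm, him⟩ := third i j hij
    have hcases : ∀ i j k l m : Fin 3, i ≠ j → k ≠ l → i ≠ l → j ≠ k → j ≠ m → i ≠ m →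
        (k = i ∧ l = j) ∨ (k = i ∧ l = m) ∨ (k = m ∧ l = j) := by decide
    rcases hcases i j k l m hij hkl hil hjk hjm him with ⟨rfl, rfl⟩ | ⟨rfl, rfl⟩ | ⟨rfl, rfl⟩
    · show _ = _
      rw [D.X_add, D.X_add, add_comm]
    · have := (row a b).map (MulAut.conj (P D.c D.t k j)).toMonoidHom
      simp only [MulEquiv.coe_toMonoidHom, MulAut.conj_apply] at this
      rwa [D.conj_X hij hjm him (by decide), D.conj_X hij hjm him (by decide)] at this
    · have := (col a b).map (MulAut.conj (P D.c D.t i l)).toMonoidHom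
      simp only [MulEquiv.coe_toMonoidHom, MulAut.conj_apply] at this
      rwa [D.conj_X hij hjm him (by decide), D.conj_X hij hjm him (by decide)] at this
  · have h1 := congrArg (fun z => P D.c D.t i j * z * (P D.c D.t i j)⁻¹) (prod a b)
    simp only [commutatorElement_def] at h1 ⊢
    rw [show P D.c D.t i j * (D.X 0 1 a * D.X 1 2 b * (D.X 0 1 a)⁻¹ * (D.X 1 2 b)⁻¹) * (P D.c D.t i j)⁻¹ =
      (P D.c D.t i j * D.X 0 1 a * (P D.c D.t i j)⁻¹) * (P D.c D.t i j * D.X 1 2 b * (P D.c D.t i j)⁻¹) *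
      (P D.c D.t i j * D.X 0 1 a * (P D.c D.t i j)⁻¹)⁻¹ * (P D.c D.t i j * D.X 1 2 b * (P D.c D.t i j)⁻¹)⁻¹
      by group] at h1
    rw [D.conj_X hij hjl hil (by decide), D.conj_X hij hjl hil (by decide),
      D.conj_X hij hjl hil (by decide)] at h1
    exact h1

end Data

end Cfsg.Lib.SL3Pres
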