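import Cfsg.Agent.Known.SL3Pres.Data
import Cfsg.Agent.Known.StN.Lift
import Cfsg.Agent.Classical.SL

/-!
# The matrices of type A2
-/

set_option autoImplicit false
set_option linter.unusedSectionVars false

namespace Cfsg.Lib.SL3Pres

open Matrix (SpecialLinearGroup)

variable {F : Type*} [Field F]

/-- The cyclic permutation matrix. -/
def mC : SpecialLinearGroup (Fin 3) F := ⟨!![0, 0, 1; 1, 0, 0; 0, 1, 0], by simp [Matrix.det_fin_three]⟩

/-- The signed flip matrix. -/
def mT : SpecialLinearGroup (Fin 3) F := ⟨!![0, 0, -1; 0, -1, 0; -1, 0, 0], by simp [Matrix.det_fin_three]⟩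

/-- The torus matrix. -/
def mH {ω : F} (hω : ω ≠ 0) : SpecialLinearGroup (Fin 3) F :=
  ⟨!![ω, 0, 0; 0, 1, 0; 0, 0, ω⁻¹], by simp [Matrix.det_fin_three, hω]⟩

theorem coe_mC : ((mC : SpecialLinearGroup (Fin 3) F) : Matrix (Fin 3) (Fin 3) F) = !![0, 0, 1; 1, 0, 0; 0, 1, 0] := rfl

theorem coe_mT :
    ((mT : SpecialLinearGroup (Fin 3) F) : Matrix (Fin 3) (Fin 3) F) = !![0, 0, -1; 0, -1, 0; -1, 0, 0] := rfl

theorem coe_mH {ω : F} (hω : ω ≠ 0) :
    (mH hω : Matrix (Fin 3) (Fin 3) F) = !![ω, 0, 0; 0, 1, 0; 0, 0, ω⁻¹] := rfl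

theorem mC_inv : (mC : SpecialLinearGroup (Fin 3) F)⁻¹ = mC * mC := by
  rw [inv_eq_iff_mul_eq_one]
  apply Subtype.ext; ext i j; fin_cases i <;> fin_cases j <;>
    simp [Matrix.SpecialLinearGroup.coe_mul, coe_mC, Matrix.mul_apply, Fin.sum_univ_three]

theorem mT_tt : (mT : SpecialLinearGroup (Fin 3) F) * mT = 1 := by
  apply Subtype.ext; ext i j; fin_cases i <;> fin_cases j <;>
    simp [Matrix.SpecialLinearGroup.coe_mul, coe_mT, Matrix.mul_apply, Fin.sum_univ_three]

theorem mT_tct : (mT : SpecialLinearGroup (Fin 3) F) * mC * mT⁻¹ = mC * mC := by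
  rw [mul_inv_eq_iff_eq_mul]
  apply Subtype.ext; ext i j; fin_cases i <;> fin_cases j <;>
    simp [Matrix.SpecialLinearGroup.coe_mul, coe_mC, coe_mT, Matrix.mul_apply, Fin.sum_univ_three]

theorem mT_tht {ω : F} (hω : ω ≠ 0) : mT * mH hω * mT⁻¹ = (mH hω)⁻¹ := by
  rw [mul_inv_eq_iff_eq_mul, eq_inv_mul_iff_mul_eq]
  apply Subtype.ext; ext i j; fin_cases i <;> fin_cases j <;>
    simp [Matrix.SpecialLinearGroup.coe_mul, coe_mH, coe_mT, Matrix.mul_apply, Fin.sum_univ_three, Matrix.vecMul, dotProduct, hω]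

theorem mH_hhh {ω : F} (hω : ω ≠ 0) : mH hω * (mC * mH hω * mC⁻¹) * (mC⁻¹ * mH hω * mC) = 1 := by
  rw [mC_inv]
  apply Subtype.ext; ext i j; fin_cases i <;> fin_cases j <;>
    simp [Matrix.SpecialLinearGroup.coe_mul, coe_mH, coe_mC, Matrix.mul_apply, Fin.sum_univ_three, Matrix.vecMul, dotProduct, hω]

theorem mH_comm {ω : F} (hω : ω ≠ 0) : Commute (mH hω) (mC * mH hω * mC⁻¹) := by
  show _ = _
  rw [mC_inv]
  apply Subtype.ext; ext i j; fin_cases i <;> fin_cases j <;>
    simp [Matrix.SpecialLinearGroup.coe_mul, coe_mH, coe_mC, Matrix.mul_apply, Fin.sum_univ_three, Matrix.vecMul, dotProduct, hω]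

theorem mH_conj {ω : F} (hω : ω ≠ 0) (x : F) :
    mH hω * StN.T 0 1 x * (mH hω)⁻¹ = (StN.T 0 1 (ω * x) : SpecialLinearGroup (Fin 3) F) := by
  rw [mul_inv_eq_iff_eq_mul]
  apply Subtype.ext; ext i j; fin_cases i <;> fin_cases j <;>
    simp [Matrix.SpecialLinearGroup.coe_mul, StN.coe_T, Matrix.transvection, coe_mH, Matrix.mul_apply,
      Fin.sum_univ_three, Matrix.single, Matrix.vecMul, dotProduct, Matrix.one_apply]

theorem mH_next {ω : F} (hω : ω ≠ 0) : mH hω * (mC * StN.T 0 1 (1 : F) * mC⁻¹) * (mH hω)⁻¹ =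
    (mC * StN.T 0 1 ω * mC⁻¹ : SpecialLinearGroup (Fin 3) F) := by
  rw [mul_inv_eq_iff_eq_mul, mC_inv]
  apply Subtype.ext; ext i j; fin_cases i <;> fin_cases j <;>
    simp [Matrix.SpecialLinearGroup.coe_mul, StN.coe_T, Matrix.transvection, coe_mH, coe_mC, Matrix.mul_apply,
      Fin.sum_univ_three, Matrix.single, Matrix.vecMul, dotProduct, Matrix.one_apply, hω]

theorem P_T {i j : Fin 3} (hij : i ≠ j) (a : F) :
    P mC mT i j * StN.T 0 1 a * (P mC mT i j)⁻¹ = (StN.T i j a : SpecialLinearGroup (Fin 3) F) := by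
  rw [mul_inv_eq_iff_eq_mul]
  apply Subtype.ext
  ext k m
  fin_cases i <;> fin_cases j <;> first | exact absurd rfl hij | skip
  all_goals fin_cases k <;> fin_cases m <;>
    simp [P, Matrix.SpecialLinearGroup.coe_mul, StN.coe_T, Matrix.transvection, coe_mC, coe_mT, Matrix.mul_apply,
      Fin.sum_univ_three, Matrix.single, Matrix.vecMul, dotProduct, Matrix.one_apply]

/-- The root element at a position. -/
def xw {G : Type*} [Group G] (u c t : G) (i j : Fin 3) : G := P c t i j * u * (P c t i j)⁻¹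

/-- The flip as a word in the root elements. -/
def tw {G : Type*} [Group G] (u c t : G) : G :=
  (xw u c t 0 2)⁻¹ * xw u c t 2 0 * (xw u c t 0 2)⁻¹ *
    ((xw u c t 0 1 * (xw u c t 1 0)⁻¹ * xw u c t 0 1) * (xw u c t 0 1 * (xw u c t 1 0)⁻¹ * xw u c t 0 1))

theorem map_P {G H : Type*} [Group G] [Group H] (f : G →* H) (c t : G) (i j : Fin 3) :
    f (P c t i j) = P (f c) (f t) i j := by
  fin_cases i <;> fin_cases j <;> simp [P]

theorem map_tw {G H : Type*} [Group G] [Group H] (f : G →* H) (u c t : G) :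
    f (tw u c t) = tw (f u) (f c) (f t) := by
  simp [tw, xw, map_P]

theorem tw_mat : tw (StN.T 0 1 (1 : F) : SpecialLinearGroup (Fin 3) F) mC mT = mT := by
  have e : ∀ {i j : Fin 3}, i ≠ j → xw (StN.T 0 1 (1 : F) : SpecialLinearGroup (Fin 3) F) mC mT i j = StN.T i j 1 :=
    fun h => P_T h 1
  have n : ∀ {i j : Fin 3}, i ≠ j → (StN.T i j (1 : F) : SpecialLinearGroup (Fin 3) F)⁻¹ = StN.T i j (-1) :=
    fun h => StN.Rels.inv StN.rels_T h 1
  rw [tw, e (by decide), e (by decide), e (by decide), e (by decide), n (by decide), n (by decide)]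
  apply Subtype.ext; ext k m; fin_cases k <;> fin_cases m <;>
    simp [Matrix.SpecialLinearGroup.coe_mul, StN.coe_T, Matrix.transvection, coe_mT, Matrix.mul_apply,
      Fin.sum_univ_three, Matrix.single, Matrix.vecMul, dotProduct, Matrix.one_apply]

theorem tw_sq {G : Type*} [Group G] {u c t : G} (hu : u * u = 1) : tw u c t * tw u c t = 1 := by
  have sq : ∀ i j, xw u c t i j * xw u c t i j = 1 := fun i j => by
    rw [xw, show P c t i j * u * (P c t i j)⁻¹ * (P c t i j * u * (P c t i j)⁻¹) = P c t i j * (u * u) * (P c t i j)⁻¹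
      by group, hu]
    group
  have inv : ∀ i j, (xw u c t i j)⁻¹ = xw u c t i j := fun i j => inv_eq_of_mul_eq_one_left (sq i j)
  have tri : ∀ i j k l, (xw u c t i j * xw u c t k l * xw u c t i j) * (xw u c t i j * xw u c t k l * xw u c t i j)
      = 1 := fun i j k l => by
    rw [show (xw u c t i j * xw u c t k l * xw u c t i j) * (xw u c t i j * xw u c t k l * xw u c t i j) =
      xw u c t i j * xw u c t k l * (xw u c t i j * xw u c t i j) * xw u c t k l * xw u c t i j by group, sq,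
      mul_one, mul_assoc (xw u c t i j) (xw u c t k l), sq, mul_one, sq]
  rw [tw, inv, inv, tri 0 1 1 0, mul_one, tri]

end Cfsg.Lib.SL3Pres
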